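import Groth.Agent.Cons51.ClosedPoints

/-!
Sheaves supported on closed points over a separably closed field are detected by global sections.
-/

set_option autoImplicit false
set_option backward.isDefEq.respectTransparency.types false
set_option maxHeartbeats 400000
universe u

open CategoryTheory CategoryTheory.Limits AlgebraicGeometry TopologicalSpace Opposite
open Groth.Agent.Unr55.EtSh Groth.Agent.EtCore45 Groth.Agent.Cons51

namespace Groth.Agent.EtRest91

/-- On a one-point scheme with separably closed residue field every germ comes from a global section. -/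
theorem exists_top_germ {Z : Scheme.{u}} [IsAffine Z] [Subsingleton Z] (hsc : ∀ z : Z, IsSepClosed (Z.residueField z))
    (G : EtCoh.Ab Z) {Ω : Type u} [Field Ω] [IsSepClosed Ω] (η : Spec (CommRingCat.of Ω) ⟶ Z)
    (a : ((EtCoh.stalk η).obj G : AddCommGrpCat.{u + 1})) :
    ∃ σ : EtCoh.sect G (EtCoh.top Z), germ η G (mkPt (U := EtCoh.top Z) _ η (Category.comp_id _)) σ = a := by
  have h1 : ∀ s : Z, IsClosed ({s} : Set Z) := fun s => by
    rw [Set.eq_univ_of_forall fun t => Set.mem_singleton_iff.2 (Subsingleton.elim t s)]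
    exact isClosed_univ
  obtain ⟨V, t, τ, rfl⟩ := exists_germ_eq η G a
  let g : V.left ⟶ Z := V.hom
  have : Etale g := V.prop
  have := Groth.Agent.Unr55.locallyQuasiFinite_of_formallyUnramified g
  let w := hom η t default
  obtain ⟨W, hW, hWb⟩ := isDiscrete_iff_forall_mem_exists_isOpen.1 (g.isDiscrete_preimage_singleton (g w)) w rfl
  let O : V.left.Opens := ⟨W, hW⟩
  have hwO : w ∈ O := (hWb.ge rfl).1
  have hO : ∀ y ∈ O, y = w := fun y hy => hWb.le ⟨hy, Subsingleton.elim _ _⟩
  let V' := openSub V O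
  have : Etale (O.ι ≫ g) := inferInstance
  obtain ⟨O', v, hgO, hv⟩ := exists_section_near (O.ι ≫ g) h1 hsc ⟨w, hwO⟩
  have hO' : O' = ⊤ := by
    refine Opens.ext (Set.eq_univ_of_forall fun y => ?_)
    rw [Subsingleton.elim y ((O.ι ≫ g) ⟨w, hwO⟩)]
    exact hgO
  subst hO'
  let v' : Z ⟶ O.toScheme := Z.topIso.inv ≫ v
  have hv' : v' ≫ O.ι ≫ g = 𝟙 Z := by
    rw [Category.assoc, hv, ← Scheme.topIso_hom, Iso.inv_hom_id]
  have : Etale v' := by
    have : Etale (v' ≫ O.ι ≫ g) := by rw [hv']; infer_instance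
    exact MorphismProperty.of_postcomp @Etale (W' := @Etale) v' (O.ι ≫ g) inferInstance this
  have : Mono v' := mono_of_mono_fac hv'
  have : IsOpenImmersion v' := IsOpenImmersion.of_flat_of_mono v'
  have : Surjective v' := ⟨fun y => ⟨g w, Subtype.ext
    ((hO _ (v' (g w)).2).trans (hO y.1 y.2).symm)⟩⟩
  have : IsIso v' := (isIso_iff_isOpenImmersion_and_surjective v').2 ⟨inferInstance, inferInstance⟩
  have hw1 : O.ι ≫ g ≫ v' = 𝟙 _ := by
    rw [← cancel_epi v']
    simp only [← Category.assoc]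
    rw [Category.assoc v', hv', Category.id_comp, Category.comp_id]
  let s : EtCoh.top Z ⟶ V' := MorphismProperty.Over.homMk v' hv' trivial
  refine ⟨G.obj.map s.op (G.obj.map (openSubι V O).op τ), ?_⟩
  rw [germ_map, germ_map]
  congr 2
  refine Over.OverMorphism.ext ?_
  have e1 : hom η t = liftOpen O (hom η t) hwO ≫ O.ι := (liftOpen_fac O (hom η t) hwO).symm
  have e2 : hom η t ≫ g = η := Over.w t
  change (η ≫ v') ≫ O.ι = hom η t
  calc (η ≫ v') ≫ O.ι = ((hom η t ≫ g) ≫ v') ≫ O.ι := congrArg (fun q => (q ≫ v') ≫ O.ι) e2.symm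
    _ = ((((liftOpen O (hom η t) hwO) ≫ O.ι) ≫ g) ≫ v') ≫ O.ι := congrArg (fun q => ((q ≫ g) ≫ v') ≫ O.ι) e1
    _ = liftOpen O (hom η t) hwO ≫ (O.ι ≫ g ≫ v') ≫ O.ι := by simp only [Category.assoc]
    _ = hom η t := by rw [hw1, Category.id_comp]; exact e1.symm

theorem isZero_of_forall_top_eq_zero {Z : Scheme.{u}} [IsAffine Z] [Subsingleton Z]
    (hsc : ∀ z : Z, IsSepClosed (Z.residueField z)) (G : EtCoh.Ab Z)
    (h : ∀ σ : EtCoh.sect G (EtCoh.top Z), σ = 0) {Ω : Type u} [Field Ω] [IsSepClosed Ω]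
    (η : Spec (CommRingCat.of Ω) ⟶ Z) : IsZero ((EtCoh.stalk η).obj G) := by
  refine @AddCommGrpCat.isZero_of_subsingleton _ (subsingleton_of_forall_eq 0 fun a => ?_)
  obtain ⟨σ, rfl⟩ := exists_top_germ hsc G η a
  rw [h σ, map_zero]

variable {X : Scheme.{u}}

theorem app_injective_of_mono {A B : EtCoh.Ab X} (φ : A ⟶ B) [Mono φ] (U : X.Etale) :
    Function.Injective (φ.hom.app (op U)) := by
  let G : EtCoh.Ab X ⥤ AddCommGrpCat.{u + 1} :=
    sheafToPresheaf _ _ ⋙ (evaluation _ AddCommGrpCat.{u + 1}).obj (op U)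
  have h1 : Mono (G.map φ) := inferInstance
  exact (AddCommGrpCat.mono_iff_injective _).1 h1

/-- A sheaf supported on closed points without nonzero global sections is zero. -/
theorem isZero_of_sections {K : Type u} [Field K] [IsSepClosed K] (a : X ⟶ Spec (CommRingCat.of K))
    [LocallyOfFiniteType a] (F : EtCoh.Ab X) (hF : ∀ x ∈ EtPBC.supp F, IsClosed ({x} : Set X))
    (h : ∀ σ : EtCoh.sect F (EtCoh.top X), σ = 0) : IsZero F := by
  have : IsLocallyNoetherian X := LocallyOfFiniteType.isLocallyNoetherian a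
  rw [IsZero.iff_id_eq_zero]
  refine Sheaf.hom_ext ?_
  ext U σ
  refine sect_eq_zero_of_germ F σ fun Ω _ _ η t => ?_
  by_cases hz : IsZero ((EtCoh.stalk η).obj F)
  · exact (AddCommGrpCat.subsingleton_of_isZero hz).elim _ _
  have hx : IsClosed ({η default} : Set X) :=
    hF _ ⟨Ω, inferInstance, inferInstance, η, (range_eq_singleton η _).2 rfl, hz⟩
  obtain ⟨b, hb⟩ := exists_sub1_germ hF hx η rfl (germ η F t σ)
  rw [← hb]
  let A := sub1 F hx
  have hA : ∀ s : EtCoh.sect A (EtCoh.top X), s = 0 := fun s =>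
    app_injective_of_mono (kernel.ι ((EtCoh.pullPushAdj (comp1 hx).ι).unit.app F)) _
      ((h _).trans (map_zero _).symm)
  let I := Scheme.IdealSheafData.vanishingIdeal ⟨{η default}, hx⟩
  let i := I.subschemeι
  have hr : Set.range i = {η default} := by
    rw [Scheme.IdealSheafData.range_subschemeι, Scheme.IdealSheafData.coe_support_vanishingIdeal]; rfl
  have hsub : Subsingleton I.subscheme := ⟨fun s t => i.isEmbedding.injective
    ((hr.le ⟨s, rfl⟩ : i s = η default).trans (hr.le ⟨t, rfl⟩ : i t = η default).symm)⟩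
  obtain ⟨z, -⟩ : η default ∈ Set.range i := hr.ge rfl
  obtain ⟨W, hW, hzW, -⟩ := exists_isAffineOpen_mem_and_subset (X := I.subscheme) (x := z) (U := ⊤) trivial
  have hWt : W = ⊤ := Opens.ext (Set.eq_univ_of_forall fun t => hsub.elim t z ▸ hzW)
  subst hWt
  have : IsAffine (⊤ : I.subscheme.Opens).toScheme := hW
  have : IsAffine I.subscheme := IsAffine.of_isIso I.subscheme.topIso.inv
  have hcl : ∀ s : I.subscheme, IsClosed ({s} : Set I.subscheme) := fun s => by
    rw [Set.eq_univ_of_forall fun t => Set.mem_singleton_iff.2 (hsub.elim t s)]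
    exact isClosed_univ
  let j := (comp1 hx).ι
  have hZU : Set.range j = (Set.range i)ᶜ := by rw [hr, Scheme.Opens.range_ι]; rfl
  have := isIso_pull_unit_closed i A
  have : IsIso ((EtCoh.pull j).map ((EtCoh.pullPushAdj i).unit.app A)) :=
    isIso_of_source_target_iso_zero _ (isZero_pull_sub1 F hx).isoZero
      (isZero_pull_push i j hZU _).isoZero
  have := isIso_of_pulls i j hZU ((EtCoh.pullPushAdj i).unit.app A)
  let u := (EtCoh.pullPushAdj i).unit.app A
  let G := (EtCoh.pull i).obj A
  have hG : ∀ s : EtCoh.sect G (EtCoh.top I.subscheme), s = 0 := by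
    intro s
    let s' : EtCoh.sect ((EtCoh.push i).obj G) (EtCoh.top X) := G.obj.map (EtCore.bcTopIso i).hom.op s
    have hs' : s' = 0 := by
      have e : u.hom.app (op (EtCoh.top X)) ((inv u).hom.app (op (EtCoh.top X)) s') = s' :=
        ConcreteCategory.congr_hom (congrArg (fun k => k.hom.app (op (EtCoh.top X))) (IsIso.inv_hom_id u)) s'
      rw [← e, hA ((inv u).hom.app (op (EtCoh.top X)) s'), map_zero]
    have e : G.obj.map (EtCore.bcTopIso i).inv.op s' = s := by
      rw [← ConcreteCategory.comp_apply, ← Functor.map_comp, ← op_comp, Iso.inv_hom_id, op_id,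
        CategoryTheory.Functor.map_id, ConcreteCategory.id_apply]
    refine e.symm.trans ?_
    rw [hs']
    exact map_zero _
  obtain ⟨v, hv⟩ : ∃ v : Spec (CommRingCat.of Ω) ⟶ I.subscheme, v ≫ i = η := by
    have : Surjective (pullback.fst η i) := ⟨fun y => by
      obtain ⟨w, hw⟩ := hr.ge (rfl : η default = η default)
      obtain ⟨q, hq, -⟩ := Scheme.Pullback.exists_preimage_pullback (f := η) (g := i) default w hw.symm
      exact ⟨q, hq.trans (Subsingleton.elim _ _)⟩⟩
    have : IsIso (pullback.fst η i) := isIso_of_isClosedImmersion_of_surjective _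
    exact ⟨inv (pullback.fst η i) ≫ pullback.snd η i, by
      rw [Category.assoc, ← pullback.condition, IsIso.inv_hom_id_assoc]⟩
  have hz0 := isZero_of_forall_top_eq_zero (fun s => isSepClosed_residueField_closed (i ≫ a) (hcl s)) G hG v
  have := AddCommGrpCat.subsingleton_of_isZero hz0
  have h2 : Subsingleton ((EtCoh.stalk (v ≫ i)).obj A : AddCommGrpCat.{u + 1}) :=
    (theta_bijective i v A).injective.subsingleton
  have : Subsingleton ((EtCoh.stalk η).obj A : AddCommGrpCat.{u + 1}) := by
    rwa [hv] at h2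
  rw [Subsingleton.elim b 0, map_zero]

end Groth.Agent.EtRest91
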