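import Groth.Agent.EtRest91.OnePoint
import Groth.Agent.DerComp18.EvBij
import Groth.Agent.EtCore45.MVExt
import Groth.Agent.Unr55.Et.AffineRefine
import Groth.Agent.Unr55.Et.Pull

/-!
Unbounded complexes with cohomology supported on closed points: hypercohomology sees cohomology sheaves.
-/

set_option autoImplicit false
set_option backward.isDefEq.respectTransparency false
set_option backward.isDefEq.respectTransparency.types false
set_option maxHeartbeats 800000
set_option linter.style.haveILetI false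
universe u t u₀ v₀

open CategoryTheory CategoryTheory.Limits CategoryTheory.Abelian DerivedCategory AlgebraicGeometry TopologicalSpace Opposite
open scoped ZeroObject

attribute [local instance] HasDerivedCategory.standard

namespace Groth.Agent.EtRest91

open Groth.Agent.Mod48 Groth.Agent.Mod48.LocGen

/-- Morphisms out of a test object with no higher cohomology see the cohomology object, for an arbitrary site. -/
theorem ev_bijective_of_vanish' {A : Type (u + 1)} [Category.{u} A] [Abelian A] [IsGrothendieckAbelian.{u} A]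
    {C : Type u₀} [Category.{v₀} C] {J : GrothendieckTopology C} (G : LocGen J A) (B : Set C)
    (hB : ∀ U : C, ∃ (ι : Type t) (Y : ι → C) (g : ∀ i, Y i ⟶ U), Sieve.ofArrows Y g ∈ J U ∧ ∀ i, Y i ∈ B)
    (href : ∀ V ∈ B, ∀ T ∈ J V, ∃ (ι : Type t) (Y : ι → C) (g : ∀ i, Y i ⟶ V),
      (∀ i, T.arrows (g i)) ∧ Sieve.ofArrows Y g ∈ J V ∧ ∀ i, Y i ∈ B)
    (E : DerivedCategory A)
    (hv : ∀ V ∈ B, ∀ (q k : ℤ), 0 < k → VanishAt (G.P V) ((homologyFunctor A q).obj E) k)
    {X : A} (hX : ∀ (q k : ℤ), 0 < k → VanishAt X ((homologyFunctor A q).obj E) k) :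
    Function.Bijective fun x : Pd X 0 ⟶ E => ev x := by
  have : HasProduct (CohCx.truncTower E) := hasProduct_of_enoughKInj Mod48.enoughKInj _
  have hR : CohCx.IsRlimVia (CohCx.truncTower E) (CohCx.truncTowerMap E) E (CohCx.toTruncTower E) :=
    isRlimVia_truncTower G E B hB fun V hV m => ⟨(-m).toNat + 1, fun T hT => by
      obtain ⟨ι, Y, g, h₁, h₂, h₃⟩ := href V hV T hT
      exact ⟨ι, Y, g, h₁, h₂, fun i n hn q k _ hk _ => hv _ (h₃ i) q k (by omega)⟩⟩
  have b₁ := rlim_truncTower_bijective (X := X) E hR 0 1 (fun n hn q k hq hk₁ hk₂ => hX q k (by omega)) 1 le_rfl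
  have b₀ := truncTower_postcomp_bijective (X := X) E 0 (-1) (by simp) 0
    (hX (-1) _ (by omega)) (hX (-1) _ (by omega))
  have hπ : CohCx.toTruncTower E 1 ≫ CohCx.truncTowerMap E 0 = CohCx.toTruncTower E 0 :=
    TStructure.t.π_natTransTruncGEOfLE_app _ _ _ E
  have hge : TStructure.t.IsGE (CohCx.truncTower E 0) 0 :=
    TStructure.t.isGE_of_ge _ 0 (-((0 : ℕ) : ℤ)) (by omega)
  have hb := (DerComp18.ev_bijective_of_isGE X _ hge).comp (b₀.comp b₁)
  have hiso : IsIso ((homologyFunctor _ 0).map (CohCx.toTruncTower E 0)) :=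
    isIso_homology_truncGEπ E (-((0 : ℕ) : ℤ)) 0 (by omega)
  have key : ∀ x : Pd X 0 ⟶ E,
      ev ((x ≫ CohCx.toTruncTower E 1) ≫ CohCx.truncTowerMap E 0) =
        ev x ≫ (homologyFunctor _ 0).map (CohCx.toTruncTower E 0) := fun x => by
    rw [Category.assoc, hπ, ev_comp]
  refine ⟨fun x x' hxx' => hb.1 ?_, fun b => ?_⟩
  · change ev ((x ≫ CohCx.toTruncTower E 1) ≫ CohCx.truncTowerMap E 0) =
      ev ((x' ≫ CohCx.toTruncTower E 1) ≫ CohCx.truncTowerMap E 0)
    rw [key, key]
    exact congrArg (· ≫ _) hxx'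
  · obtain ⟨x, hx⟩ := hb.2 (b ≫ (homologyFunctor _ 0).map (CohCx.toTruncTower E 0))
    change ev ((x ≫ CohCx.toTruncTower E 1) ≫ CohCx.truncTowerMap E 0) = _ at hx
    rw [key, cancel_mono] at hx
    exact ⟨x, hx⟩

/-- Vanishing of an Ext group as vanishing in the derived category. -/
theorem vanishAt_of_subsingleton_ext {A : Type (u + 1)} [Category.{u} A] [Abelian A] [HasExt.{u} A] {P F : A}
    (k : ℕ) (h : Subsingleton (Ext.{u} P F k)) : VanishAt P F (k : ℤ) := by
  intro m q hmq f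
  change ((singleFunctor _ m).obj P ⟶ (singleFunctor _ q).obj F) at f
  have : Subsingleton ((singleFunctor _ 0).obj P ⟶ ((singleFunctor _ 0).obj F)⟦(k : ℤ)⟧) :=
    (Ext.homEquiv (X := P) (Y := F) (n := k)).symm.subsingleton
  let s := singleFunctors A
  have eX : ((singleFunctor _ m).obj P)⟦m⟧ ≅ (singleFunctor _ 0).obj P := (s.shiftIso m 0 m (add_zero m)).app P
  have eF : ((singleFunctor _ q).obj F)⟦m⟧ ≅ ((singleFunctor _ 0).obj F)⟦(k : ℤ)⟧ :=
    (s.shiftIso m (-(k : ℤ)) q (by omega)).app F ≪≫ ((s.shiftIso (k : ℤ) (-(k : ℤ)) 0 (by omega)).app F).symm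
  apply (shiftFunctor _ m).map_injective
  rw [← cancel_mono eF.hom, ← cancel_epi eX.inv]
  exact Subsingleton.elim _ _

variable {X : Scheme.{u}}

/-- The representing object of sections on an étale object. -/
noncomputable def gP (V : X.Etale) : EtCoh.Ab X :=
  haveI : Etale V.hom := V.prop
  EtCore45.MV.P V.hom

/-- An étale object as the image of its final object. -/
noncomputable def topComp (V : X.Etale) :
    haveI : Etale V.hom := V.prop
    V ≅ (EtShriek.compEtale V.hom).obj (EtCoh.top V.left) :=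
  MorphismProperty.Over.isoMk (Iso.refl V.left) rfl

theorem S_add (V : X.Etale) {A : EtCoh.Ab X} (φ ψ : gP V ⟶ A) :
    haveI : Etale V.hom := V.prop
    EtCore45.MV.S V.hom (φ + ψ) = EtCore45.MV.S V.hom φ + EtCore45.MV.S V.hom ψ := by
  haveI : Etale V.hom := V.prop
  have := (EtCoh.pullPushAdj V.hom).left_adjoint_additive
  simp only [EtCore45.MV.S, EtCore45.MV.sectOf, Functor.map_add, Preadditive.comp_add, EtCore45.MV.oneSect_add,
    map_add]

/-- Maps out of the representing object are sections. -/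
noncomputable def sectEquiv (V : X.Etale) (A : EtCoh.Ab X) : (gP V ⟶ A) ≃+ EtCoh.sect A V :=
  haveI : Etale V.hom := V.prop
  AddEquiv.ofBijective
    (AddMonoidHom.mk' (fun φ => A.obj.map (topComp V).hom.op (EtCore45.MV.S V.hom φ))
      (fun φ ψ => (congrArg _ (S_add V φ ψ)).trans (map_add _ _ _)))
    ((ConcreteCategory.bijective_of_isIso (A.obj.map (topComp V).hom.op)).comp
      (EtCore45.MV.S_bijective V.hom A))

theorem sectEquiv_comp (V : X.Etale) {A B : EtCoh.Ab X} (φ : gP V ⟶ A) (f : A ⟶ B) :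
    sectEquiv V B (φ ≫ f) = f.hom.app (op V) (sectEquiv V A φ) := by
  haveI : Etale V.hom := V.prop
  change B.obj.map (topComp V).hom.op (EtCore45.MV.S V.hom (φ ≫ f)) =
    f.hom.app (op V) (A.obj.map (topComp V).hom.op (EtCore45.MV.S V.hom φ))
  rw [EtCore45.MV.app_map]
  congr 1
  simp only [EtCore45.MV.S, EtCore45.MV.sectOf, Functor.map_comp, ← Category.assoc, EtCore45.MV.oneSect_comp,
    EtCore45.MV.pullSect_natural]
  rfl

/-- The map of representing objects. -/
noncomputable def gR {V U : X.Etale} (g : V ⟶ U) : gP V ⟶ gP U :=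
  (sectEquiv V (gP U)).symm ((gP U).obj.map g.op (sectEquiv U (gP U) (𝟙 (gP U))))

theorem sectEquiv_gR {V U : X.Etale} (g : V ⟶ U) {A : EtCoh.Ab X} (φ : gP U ⟶ A) :
    sectEquiv V A (gR g ≫ φ) = A.obj.map g.op (sectEquiv U A φ) := by
  rw [sectEquiv_comp, gR, AddEquiv.apply_symm_apply, EtCore45.MV.app_map, ← sectEquiv_comp, Category.id_comp]

/-- The locally projective family of sheaves representing sections on the small étale site. -/
noncomputable def etGen (X : Scheme.{u}) : LocGen X.smallEtaleTopology (EtCoh.Ab X) where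
  P := gP
  r := gR
  r_comp {W V U} g h := by
    apply (sectEquiv W (gP U)).injective
    rw [sectEquiv_gR, gR, AddEquiv.apply_symm_apply, gR, AddEquiv.apply_symm_apply, EtCore45.MV.map_map]
  sep {U A} a S hS h := by
    apply (sectEquiv U A).injective
    rw [map_zero]
    refine (Unr55.EtSh.isSheafFor_forget A hS).isSeparatedFor.ext fun V g hg => ?_
    change A.obj.map g.op _ = A.obj.map g.op 0
    rw [← sectEquiv_gR, h g hg, map_zero, map_zero]
  lift {U A B} p _ a := by
    have : Sheaf.IsLocallySurjective p := (Sheaf.isLocallySurjective_iff_epi' AddCommGrpCat.{u + 1} p).2 ‹_›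
    refine ⟨_, Presheaf.imageSieve_mem X.smallEtaleTopology p.hom (sectEquiv U B a), fun V g hg => ?_⟩
    obtain ⟨t, ht⟩ := hg
    refine ⟨(sectEquiv V A).symm t, (sectEquiv V B).injective ?_⟩
    rw [sectEquiv_comp, AddEquiv.apply_symm_apply, sectEquiv_gR]
    exact ht
  detect {A} h := by
    rw [IsZero.iff_id_eq_zero]
    refine Sheaf.hom_ext ?_
    ext U x
    obtain ⟨U⟩ := U
    obtain ⟨a, rfl⟩ := (sectEquiv U A).surjective x
    rw [h U a, map_zero, map_zero]
    exact (map_zero _).symm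

theorem exists_affine_refinement (U : X.Etale) (T : Sieve U) (hT : T ∈ X.smallEtaleTopology U) :
    ∃ (ι : Type (u + 1)) (Y : ι → X.Etale) (g : ∀ i, Y i ⟶ U),
      (∀ i, T.arrows (g i)) ∧ Sieve.ofArrows Y g ∈ X.smallEtaleTopology U ∧ ∀ i, IsAffine (Y i).left := by
  let ι : Type (u + 1) := Σ V : X.Etale, { g : V ⟶ U // T.arrows g ∧ IsAffine V.left }
  refine ⟨ι, fun i => i.1, fun i => i.2.1, fun i => i.2.2.1, ?_, fun i => i.2.2.2⟩
  refine Unr55.EtSh.mem_topology fun x => ?_
  obtain ⟨Y, f, y, hf, -, hy⟩ :=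
    (Scheme.mem_toGrothendieck_smallPretopology U _).1 (Unr55.EtaleAff.mem_topology_iff hT) x
  obtain ⟨O, hO, hyO, -⟩ := exists_isAffineOpen_mem_and_subset (X := Y.left) (x := y) (U := ⊤) trivial
  have : Etale Y.hom := Y.prop
  let W : X.Etale := Unr55.EtSh.openSub Y O
  have hW : IsAffine W.left := hO
  refine ⟨W, Unr55.EtSh.openSubι Y O ≫ f, ⟨y, hyO⟩, ?_, hy⟩
  exact (Sieve.mem_ofArrows_iff _ _ _).2
    ⟨⟨W, Unr55.EtSh.openSubι Y O ≫ f, T.downward_closed hf _, hW⟩, 𝟙 _, (Category.id_comp _).symm⟩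

variable {K : Type u} [Field K] [IsSepClosed K] (a : X ⟶ Spec (CommRingCat.of K)) [LocallyOfFiniteType a]
  [QuasiCompact a]

omit [QuasiCompact a] in
include a in
theorem vanishAt_gP (F : EtCoh.Ab X) (hF : ∀ x ∈ EtPBC.supp F, IsClosed ({x} : Set X)) (V : X.Etale)
    [IsAffine V.left] (k : ℕ) (hk : 1 ≤ k) : VanishAt (gP V) F (k : ℤ) := by
  haveI : Etale V.hom := V.prop
  let h : V.left ⟶ X := V.hom
  have : Etale h := V.prop
  refine vanishAt_of_subsingleton_ext k ?_
  have hs : Subsingleton (EtCoh.H V.left ((EtCoh.pull h).obj F) k) := by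
    refine Cons51.subsingleton_H_of_supp_closed_points (h ≫ a) _ (fun y hy => ?_) k hk
    obtain ⟨Ω, _, _, ξ, hξ, hne⟩ := hy
    refine Cons51.isClosed_singleton_etale h y (hF _ ⟨Ω, inferInstance, inferInstance, ξ ≫ h, ?_, fun hz => hne ?_⟩)
    · rw [Scheme.Hom.comp_base, TopCat.coe_comp, Set.range_comp, hξ, Set.image_singleton]
    · have := AddCommGrpCat.subsingleton_of_isZero hz
      exact @AddCommGrpCat.isZero_of_subsingleton _
        (Unr55.EtSh.theta_bijective h ξ F).surjective.subsingleton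
  exact (EtCore45.MV.tr_bijective h F k).injective.subsingleton

include a in
theorem isZero_of_subsingleton_hom (Q : DCoh.DEt X)
    (hQ : ∀ (x : X), ¬ IsClosed ({x} : Set X) → ∀ (Ω : Type u) [Field Ω] [IsSepClosed Ω]
      (ξ : Spec (CommRingCat.of Ω) ⟶ X), Set.range ξ.base = {x} →
        ∀ i : ℤ, IsZero ((EtCoh.stalk ξ).obj (DCoh.HDEt Q i)))
    (h : ∀ i : ℤ, Subsingleton
      ((DerivedCategory.singleFunctor (EtCoh.Ab X) 0).obj (EtCoh.const X ℤ) ⟶ (shiftFunctor (DCoh.DEt X) i).obj Q)) :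
    IsZero Q := by
  have hsupp : ∀ i : ℤ, ∀ x ∈ EtPBC.supp (DCoh.HDEt Q i), IsClosed ({x} : Set X) := by
    rintro i x ⟨Ω, _, _, ξ, hξ, hne⟩
    by_contra hx
    exact hne (hQ x hx Ω ξ hξ i)
  have hH : ∀ i : ℤ, IsZero (DCoh.HDEt Q i) := by
    intro i
    let E : DCoh.DEt X := (shiftFunctor (DCoh.DEt X) i).obj Q
    have eE : ∀ q : ℤ, (homologyFunctor (EtCoh.Ab X) q).obj E ≅ DCoh.HDEt Q (i + q) := fun q =>
      ((homologyFunctor (EtCoh.Ab X) 0).shiftIso i q (i + q) rfl).app Q
    have hsE : ∀ q : ℤ, ∀ x ∈ EtPBC.supp ((homologyFunctor (EtCoh.Ab X) q).obj E), IsClosed ({x} : Set X) := by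
      rintro q x ⟨Ω, _, _, ξ, hξ, hne⟩
      exact hsupp (i + q) x ⟨Ω, inferInstance, inferInstance, ξ, hξ, fun hz =>
        hne (hz.of_iso ((EtCoh.stalk ξ).mapIso (eE q)))⟩
    have hv : ∀ (V : X.Etale), IsAffine V.left → ∀ (q k : ℤ), 0 < k →
        VanishAt (gP V) ((homologyFunctor (EtCoh.Ab X) q).obj E) k := by
      intro V hV q k hk
      obtain ⟨n, rfl⟩ := Int.eq_ofNat_of_zero_le hk.le
      exact vanishAt_gP a _ (hsE q) V n (by omega)
    have hX : ∀ (q k : ℤ), 0 < k →
        VanishAt (EtCoh.const X ℤ) ((homologyFunctor (EtCoh.Ab X) q).obj E) k := by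
      intro q k hk
      obtain ⟨n, rfl⟩ := Int.eq_ofNat_of_zero_le hk.le
      exact vanishAt_of_subsingleton_ext n
        (Cons51.subsingleton_H_of_supp_closed_points a _ (hsE q) n (by omega))
    have hb := ev_bijective_of_vanish' (etGen X) {V : X.Etale | IsAffine V.left}
      (fun U => by
        obtain ⟨ι, Y, g, -, h2, h3⟩ := exists_affine_refinement U ⊤ (X.smallEtaleTopology.top_mem U)
        exact ⟨ι, Y, g, h2, h3⟩)
      (fun V _ T hT => exists_affine_refinement V T hT) E (fun V hV => hv V hV) hX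
    have hsub : Subsingleton (EtCoh.const X ℤ ⟶ (homologyFunctor (EtCoh.Ab X) 0).obj E) := by
      have : Subsingleton (Pd (EtCoh.const X ℤ) 0 ⟶ E) := h i
      exact hb.surjective.subsingleton
    have hz : IsZero ((homologyFunctor (EtCoh.Ab X) 0).obj E) := by
      refine isZero_of_sections a _ (hsE 0) fun σ => ?_
      obtain ⟨ψ, rfl⟩ := (EtCore45.MV.oneSect_bijective _).2 σ
      obtain ⟨ψ', hψ'⟩ := (EtCore45.MV.oneSect_bijective ((homologyFunctor (EtCoh.Ab X) 0).obj E)).2 0
      rw [Subsingleton.elim ψ ψ']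
      exact hψ'
    exact hz.of_iso ((eqToIso (congrArg (DCoh.HDEt Q) (add_zero i).symm)) ≪≫ (eE 0).symm)
  have : IsIso (0 : Q ⟶ (0 : DCoh.DEt X)) := by
    rw [DerivedCategory.isIso_iff]
    intro n
    exact isIso_of_source_target_iso_zero _ (hH n).isoZero
      ((homologyFunctor (EtCoh.Ab X) n).map_isZero (isZero_zero _)).isoZero
  exact (isZero_zero (DCoh.DEt X)).of_iso (asIso (0 : Q ⟶ (0 : DCoh.DEt X)))

end Groth.Agent.EtRest91
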